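import Cfsg.Agent.H858.BR.SpDefs
import Cfsg.Agent.H487.BR.TPrim

/-!
# HUB BR, `fam_sp_odd`: the symplectic Lie algebra (helper858)

* `rtK_mem_sp`, `rtK_mul`, `rt_Rt`;
* `sp_le_span` : the root elements `rt K v`, `v` rational, span `sp`;
* `rt_join`, `sp_le_of_rt`, `sp_le_of_mem` : an invariant subspace of `End V` which meets `sp` contains `sp`;
* `card_le_finrank` : `2 m ^ 2 + m ≤ dim sp`;
* `tprim`.
-/

set_option autoImplicit false

namespace Cfsg.Agent.H858.BR

open Cfsg Cfsg.Agent.H883.BR Cfsg.Agent.ClassicalGeometry.SympBasic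
open scoped Matrix

section

variable {m : ℕ} {K : Type*} [Field K]

theorem rtK_mem_sp (v : Fin m ⊕ Fin m → K) : rtK v ∈ sp m K := by
  intro x y
  rw [rtK_apply, rtK_apply, sympForm_smul_left, sympForm_smul_right, sympForm_swap v y]
  ring

theorem rtK_mul (v : Fin m ⊕ Fin m → K) (X : Module.End K (Fin m ⊕ Fin m → K)) :
    rtK v * X * rtK v = sympForm m K (X v) v • rtK v := by
  refine LinearMap.ext fun y => ?_
  change rtK v (X (rtK v y)) = sympForm m K (X v) v • rtK v y
  rw [rtK_apply v y, map_smul, map_smul, rtK_apply, smul_comm]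

theorem rtK_sq (v : Fin m ⊕ Fin m → K) : rtK v * rtK v = 0 := by
  have h := rtK_mul v 1
  rw [mul_one] at h
  rw [h]
  change sympForm m K v v • rtK v = 0
  rw [sympForm_self, zero_smul]

theorem rtK_zero : rtK (0 : Fin m ⊕ Fin m → K) = 0 := by
  refine LinearMap.ext fun y => ?_
  rw [rtK_apply, smul_zero]
  rfl

theorem rtK_ne_zero {v : Fin m ⊕ Fin m → K} (hv : v ≠ 0) : rtK v ≠ 0 := by
  intro h
  apply hv
  refine eq_zero_of_forall_sympForm_left fun w => ?_
  have h1 := LinearMap.congr_fun h w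
  rw [rtK_apply] at h1
  exact (smul_eq_zero.1 h1).resolve_right hv

theorem rtK_add (v w : Fin m ⊕ Fin m → K) : rt1 v w + rt1 w v = rtK (v + w) - rtK v - rtK w := by
  refine LinearMap.ext fun y => ?_
  change sympForm m K y w • v + sympForm m K y v • w =
    sympForm m K y (v + w) • (v + w) - sympForm m K y v • v - sympForm m K y w • w
  rw [sympForm_add_right, add_smul, smul_add, smul_add]
  abel

variable (K) in
/-- the dual basis: `B(y, du j) = y j` -/
def du (j : Fin m ⊕ Fin m) : Fin m ⊕ Fin m → K :=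
  Sum.elim (fun i => - Pi.single (Sum.inr i) 1) (fun i => Pi.single (Sum.inl i) 1) j

theorem form_du (y : Fin m ⊕ Fin m → K) (j : Fin m ⊕ Fin m) : sympForm m K y (du K j) = y j := by
  rcases j with i | i
  · change sympForm m K y (- Pi.single (Sum.inr i) 1) = _
    rw [sympForm_neg_right, sympForm_single_inr_right, neg_neg]
  · change sympForm m K y (Pi.single (Sum.inl i) 1) = _
    rw [sympForm_single_inl_right]

theorem du_vk {F : Type*} [Field F] [Algebra F K] (j : Fin m ⊕ Fin m) : du K j = vk K (du F j) := by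
  rcases j with i | i
  · change - Pi.single (Sum.inr i) 1 = vk K (- Pi.single (Sum.inr i) (1 : F))
    funext k
    rw [vk_apply, Pi.neg_apply, Pi.neg_apply, map_neg]
    by_cases hk : k = Sum.inr i
    · subst hk
      rw [Pi.single_eq_same, Pi.single_eq_same, map_one]
    · rw [Pi.single_eq_of_ne hk, Pi.single_eq_of_ne hk, map_zero]
  · change Pi.single (Sum.inl i) 1 = vk K (Pi.single (Sum.inl i) (1 : F))
    funext k
    rw [vk_apply]
    by_cases hk : k = Sum.inl i
    · subst hk
      rw [Pi.single_eq_same, Pi.single_eq_same, map_one]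
    · rw [Pi.single_eq_of_ne hk, Pi.single_eq_of_ne hk, map_zero]

/-- coordinates of a vector in the dual basis -/
theorem eq_sum_du (w : Fin m ⊕ Fin m → K) : w = ∑ k, sympForm m K (Pi.single k 1) w • du K k := by
  refine eq_of_forall_sympForm_left fun y => ?_
  have h1 : sympForm m K y (∑ k, sympForm m K (Pi.single k 1) w • du K k) =
      ∑ k, sympForm m K (Pi.single k 1) w * y k := by
    rw [← sympBilin_apply, map_sum]
    refine Finset.sum_congr rfl fun k _ => ?_
    rw [sympBilin_apply, sympForm_smul_right, form_du]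
  have h2 : y = ∑ k, y k • (Pi.single k 1 : Fin m ⊕ Fin m → K) := pi_eq_sum_univ' y
  rw [h1]
  conv_lhs => rw [h2]
  rw [← sympBilin_apply, map_sum, LinearMap.sum_apply]
  refine Finset.sum_congr rfl fun k _ => ?_
  rw [map_smul, LinearMap.smul_apply, sympBilin_apply, smul_eq_mul, mul_comm]

/-- coordinates of an endomorphism -/
theorem end_eq (X : Module.End K (Fin m ⊕ Fin m → K)) :
    X = ∑ j, ∑ k, sympForm m K (Pi.single k 1) (X (Pi.single j 1)) • rt1 (du K k) (du K j) := by
  refine LinearMap.ext fun y => ?_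
  have h2 : y = ∑ j, y j • (Pi.single j 1 : Fin m ⊕ Fin m → K) := pi_eq_sum_univ' y
  conv_lhs => rw [h2]
  rw [map_sum, LinearMap.sum_apply]
  refine Finset.sum_congr rfl fun j _ => ?_
  rw [map_smul, LinearMap.sum_apply]
  conv_lhs => rw [eq_sum_du (X (Pi.single j 1))]
  rw [Finset.smul_sum]
  refine Finset.sum_congr rfl fun k _ => ?_
  rw [LinearMap.smul_apply, rt1_apply, form_du, smul_smul, smul_smul, mul_comm]

end

section

variable {m : ℕ} {F : Type*} [Field F] {K : Type*} [Field K] [Algebra F K]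

/-- the root elements span `sp` -/
theorem sp_le_span (h2 : (2 : K) ≠ 0) {X : Module.End K (Fin m ⊕ Fin m → K)} (hX : X ∈ sp m K) :
    X ∈ Submodule.span K (Set.range (rt K : (Fin m ⊕ Fin m → F) → _)) := by
  set S := Submodule.span K (Set.range (rt K : (Fin m ⊕ Fin m → F) → Module.End K (Fin m ⊕ Fin m → K))) with hS
  have hsym : ∀ j k, sympForm m K (Pi.single k 1) (X (Pi.single j 1)) =
      sympForm m K (Pi.single j 1) (X (Pi.single k 1)) := by
    intro j k
    have h1 := hX (Pi.single k 1) (Pi.single j 1)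
    rw [sympForm_swap (X (Pi.single k 1))] at h1
    linear_combination h1
  have h1 := end_eq X
  have h3 : X = ∑ j, ∑ k, sympForm m K (Pi.single k 1) (X (Pi.single j 1)) • rt1 (du K j) (du K k) := by
    conv_lhs => rw [end_eq X]
    rw [Finset.sum_comm]
    refine Finset.sum_congr rfl fun j _ => Finset.sum_congr rfl fun k _ => ?_
    rw [hsym]
  have h4 : (2 : K) • X ∈ S := by
    have h5 : (2 : K) • X = ∑ j, ∑ k, sympForm m K (Pi.single k 1) (X (Pi.single j 1)) •
        (rt1 (du K k) (du K j) + rt1 (du K j) (du K k)) := by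
      calc (2 : K) • X = X + X := two_smul _ _
        _ = _ := congrArg₂ (· + ·) h1 h3
        _ = _ := by
          rw [← Finset.sum_add_distrib]
          refine Finset.sum_congr rfl fun j _ => ?_
          rw [← Finset.sum_add_distrib]
          refine Finset.sum_congr rfl fun k _ => ?_
          rw [smul_add]
    rw [h5]
    refine Submodule.sum_mem _ fun j _ => Submodule.sum_mem _ fun k _ => Submodule.smul_mem _ _ ?_
    have e : ∀ j : Fin m ⊕ Fin m, du K j = vk K (du F j) := fun j => du_vk j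
    rw [rtK_add, e j, e k, ← vk_add]
    exact Submodule.sub_mem _ (Submodule.sub_mem _ (Submodule.subset_span ⟨_, rfl⟩) (Submodule.subset_span ⟨_, rfl⟩))
      (Submodule.subset_span ⟨_, rfl⟩)
  have h6 := S.smul_mem (2 : K)⁻¹ h4
  rwa [smul_smul, inv_mul_cancel₀ h2, one_smul] at h6

/-- a rational multiple test: `X = 0` if `B(X v, w) = 0` for rational vectors -/
theorem eq_zero_of_rational {X : Module.End K (Fin m ⊕ Fin m → K)}
    (h : ∀ v w : Fin m ⊕ Fin m → F, sympForm m K (X (vk K v)) (vk K w) = 0) : X = 0 := by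
  have hs : ∀ j : Fin m ⊕ Fin m, (Pi.single j 1 : Fin m ⊕ Fin m → K) = vk K (Pi.single j (1 : F)) := by
    intro j
    funext k
    rw [vk_apply]
    by_cases hk : k = j
    · subst hk
      rw [Pi.single_eq_same, Pi.single_eq_same, map_one]
    · rw [Pi.single_eq_of_ne hk, Pi.single_eq_of_ne hk, map_zero]
  rw [end_eq X]
  refine Finset.sum_eq_zero fun j _ => Finset.sum_eq_zero fun k _ => ?_
  rw [sympForm_swap, hs j, hs k, h, neg_zero, zero_smul]

theorem exists_diag_ne (h2 : (2 : K) ≠ 0) {X : Module.End K (Fin m ⊕ Fin m → K)} (hX : X ∈ sp m K) (h0 : X ≠ 0) :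
    ∃ v : Fin m ⊕ Fin m → F, sympForm m K (X (vk K v)) (vk K v) ≠ 0 := by
  by_contra hcon
  push Not at hcon
  apply h0
  refine eq_zero_of_rational (F := F) fun v w => ?_
  have h3 := hcon (v + w)
  rw [vk_add, map_add, sympForm_add_left, sympForm_add_right, sympForm_add_right, hcon v, hcon w] at h3
  have h4 := hX (vk K w) (vk K v)
  rw [sympForm_swap (vk K w)] at h4
  have h5 : 2 * sympForm m K (X (vk K v)) (vk K w) = 0 := by linear_combination h3 - h4
  exact (mul_eq_zero.1 h5).resolve_left h2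

variable {F1 : Subfield K} (hF1 : ∀ t ∈ F1, ∃ c : F, algebraMap F K c = t)
include hF1

theorem rt_Rt (v : Fin m ⊕ Fin m → F) : Rt (rho m F K) F1 ⊤ (rt K v) := by
  refine ⟨rtK_sq _, fun t ht => ?_⟩
  obtain ⟨c, rfl⟩ := hF1 t ht
  exact ⟨transv v c, Subgroup.mem_top _, rho_transv v c⟩

variable [Finite F1] (h3 : 3 ≤ Nat.card F1)
include h3

theorem rt_mem {S : Submodule K (Module.End K (Fin m ⊕ Fin m → K))} (hS : Inv (ad (rho m F K)) ⊤ S)
    {X : Module.End K (Fin m ⊕ Fin m → K)} (hX : X ∈ S) {v : Fin m ⊕ Fin m → F}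
    (hv : sympForm m K (X (vk K v)) (vk K v) ≠ 0) : rt K v ∈ S := by
  have h1 := (Cfsg.Agent.H487.BR.root_mem h3 hS (rt_Rt hF1 v) hX).2
  rw [rt, rtK_mul] at h1
  have h4 := S.smul_mem (sympForm m K (X (vk K v)) (vk K v))⁻¹ h1
  rwa [smul_smul, inv_mul_cancel₀ hv, one_smul] at h4

theorem rt_step {S : Submodule K (Module.End K (Fin m ⊕ Fin m → K))} (hS : Inv (ad (rho m F K)) ⊤ S)
    {v w : Fin m ⊕ Fin m → F} (hv : rt K v ∈ S) (hvw : sympForm m F v w ≠ 0) : rt K w ∈ S := by
  refine rt_mem hF1 h3 hS hv ?_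
  rw [rt_apply, sympForm_smul_left, form_vk, form_vk, sympForm_swap w v]
  have h1 : algebraMap F K (sympForm m F v w) ≠ 0 := by rwa [Ne, map_eq_zero]
  rw [map_neg]
  exact mul_ne_zero (neg_ne_zero.2 h1) h1

theorem rt_join {S : Submodule K (Module.End K (Fin m ⊕ Fin m → K))} (hS : Inv (ad (rho m F K)) ⊤ S)
    {v : Fin m ⊕ Fin m → F} (hv0 : v ≠ 0) (hv : rt K v ∈ S) (w : Fin m ⊕ Fin m → F) : rt K w ∈ S := by
  by_cases hw : w = 0
  · rw [hw, rt, vk_zero, rtK_zero]
    exact S.zero_mem
  · obtain ⟨z, h1, h4⟩ := exists_both_ne_zero hv0 hw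
    refine rt_step hF1 h3 hS (rt_step hF1 h3 hS hv h1) ?_
    rw [sympForm_swap]
    exact neg_ne_zero.2 h4

theorem sp_le_of_rt (h2 : (2 : K) ≠ 0) {S : Submodule K (Module.End K (Fin m ⊕ Fin m → K))}
    (hS : Inv (ad (rho m F K)) ⊤ S) {v : Fin m ⊕ Fin m → F} (hv0 : v ≠ 0) (hv : rt K v ∈ S) : sp m K ≤ S := by
  intro X hX
  have h1 := sp_le_span (F := F) h2 hX
  have h4 : Submodule.span K (Set.range (rt K : (Fin m ⊕ Fin m → F) → Module.End K (Fin m ⊕ Fin m → K))) ≤ S := by
    rw [Submodule.span_le]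
    rintro _ ⟨w, rfl⟩
    exact rt_join hF1 h3 hS hv0 hv w
  exact h4 h1

/-- **an invariant subspace which meets `sp` contains it** -/
theorem sp_le_of_mem (h2 : (2 : K) ≠ 0) {S : Submodule K (Module.End K (Fin m ⊕ Fin m → K))}
    (hS : Inv (ad (rho m F K)) ⊤ S) {X : Module.End K (Fin m ⊕ Fin m → K)} (hXS : X ∈ S) (hX : X ∈ sp m K)
    (hX0 : X ≠ 0) : sp m K ≤ S := by
  obtain ⟨v, hv⟩ := exists_diag_ne (F := F) h2 hX hX0
  refine sp_le_of_rt hF1 h3 h2 hS (v := v) ?_ (rt_mem hF1 h3 hS hXS hv)
  rintro rfl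
  rw [vk_zero, sympForm_zero_right] at hv
  exact hv rfl

/-- **`TPrim`** -/
theorem tprim : TPrim (rho m F K) := by
  refine Cfsg.Agent.H487.BR.tprim_of_rank_one h3 (Set.range (rt K : (Fin m ⊕ Fin m → F) → _)) ?_ ?_ ?_
  · rintro _ ⟨v, rfl⟩
    refine ⟨rt_Rt hF1 v, vk K v, -(sympBilin m K (vk K v)), fun y => ?_⟩
    rw [rt_apply, LinearMap.neg_apply, sympBilin_apply, sympForm_swap y]
  · intro X hX
    have h1 : ∀ v : Fin m ⊕ Fin m → F, v ≠ 0 → ∃ c : K, X (vk K v) = c • vk K v := by
      intro v hv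
      obtain ⟨w, hw⟩ : ∃ w, sympForm m F w v ≠ 0 := by
        by_contra hcon
        push Not at hcon
        exact hv (eq_zero_of_forall_sympForm_left hcon)
      have h4 := LinearMap.congr_fun (hX _ ⟨v, rfl⟩) (vk K w)
      change rt K v (X (vk K w)) = X (rt K v (vk K w)) at h4
      rw [rt_apply, rt_apply, map_smul, form_vk] at h4
      have h5 : algebraMap F K (sympForm m F w v) ≠ 0 := by rwa [Ne, map_eq_zero]
      refine ⟨(algebraMap F K (sympForm m F w v))⁻¹ * sympForm m K (X (vk K w)) (vk K v), ?_⟩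
      rw [mul_smul, h4, smul_smul, inv_mul_cancel₀ h5, one_smul]
    by_cases hm : Nonempty (Fin m ⊕ Fin m)
    · obtain ⟨i0⟩ := hm
      have hs : ∀ j : Fin m ⊕ Fin m, vk K (Pi.single j (1 : F)) = (Pi.single j 1 : Fin m ⊕ Fin m → K) := by
        intro j
        funext k
        rw [vk_apply]
        by_cases hk : k = j
        · subst hk
          rw [Pi.single_eq_same, Pi.single_eq_same, map_one]
        · rw [Pi.single_eq_of_ne hk, Pi.single_eq_of_ne hk, map_zero]
      have hne : ∀ j : Fin m ⊕ Fin m, (Pi.single j (1 : F) : Fin m ⊕ Fin m → F) ≠ 0 := by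
        intro j hj
        have := congrFun hj j
        rw [Pi.single_eq_same] at this
        exact one_ne_zero this
      choose c hc using fun j => h1 (Pi.single j (1 : F)) (hne j)
      have hcc : ∀ j, c j = c i0 := by
        intro j
        by_cases hj : j = i0
        · rw [hj]
        · have hne' : (Pi.single j (1 : F) + Pi.single i0 1 : Fin m ⊕ Fin m → F) ≠ 0 := by
            intro h0
            have := congrFun h0 j
            rw [Pi.add_apply, Pi.single_eq_same, Pi.single_eq_of_ne hj, add_zero] at this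
            exact one_ne_zero this
          obtain ⟨d, hd⟩ := h1 _ hne'
          rw [vk_add, map_add, hc, hc, hs, hs] at hd
          have e1 := congrFun hd j
          have e2 := congrFun hd i0
          simp only [Pi.add_apply, Pi.smul_apply, Pi.single_eq_same, Pi.single_eq_of_ne hj,
            Pi.single_eq_of_ne (Ne.symm hj), smul_eq_mul, mul_one, mul_zero, add_zero, zero_add] at e1 e2
          rw [e1, e2]
      refine ⟨c i0, ?_⟩
      refine LinearMap.pi_ext' fun j => LinearMap.ext_ring ?_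
      change X (Pi.single j 1) = c i0 • Pi.single j 1
      rw [← hs, hc, hcc]
    · refine ⟨0, LinearMap.ext fun y => funext fun j => (hm ⟨j⟩).elim⟩
  · rintro S hS ⟨_, ⟨v, rfl⟩, h0, hv⟩ _ ⟨w, rfl⟩
    refine rt_join hF1 h3 hS (v := v) ?_ hv w
    rintro rfl
    rw [rt, vk_zero, rtK_zero] at h0
    exact h0 rfl

end

section dim

variable (m : ℕ) (K : Type*) [Field K]

/-- the element of `sp` given by a symmetric matrix -/
noncomputable def ofSym : (Sym2 (Fin m ⊕ Fin m) → K) →ₗ[K] sp m K where
  toFun s := ⟨∑ j, ∑ k, s s(j, k) • rt1 (du K k) (du K j), by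
    intro v w
    have h1 : ∀ x y : Fin m ⊕ Fin m → K, sympForm m K
        ((∑ j, ∑ k, s s(j, k) • rt1 (du K k) (du K j) : Module.End K (Fin m ⊕ Fin m → K)) x) y =
        ∑ j, ∑ k, s s(j, k) * x j * (- y k) := by
      intro x y
      rw [LinearMap.sum_apply, sympForm_swap, ← sympBilin_apply, map_sum, ← Finset.sum_neg_distrib]
      refine Finset.sum_congr rfl fun j _ => ?_
      rw [LinearMap.sum_apply, map_sum, ← Finset.sum_neg_distrib]
      refine Finset.sum_congr rfl fun k _ => ?_
      rw [LinearMap.smul_apply, rt1_apply, sympBilin_apply, sympForm_smul_right, sympForm_smul_right, form_du, form_du]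
      ring
    rw [sympForm_swap v, h1, h1, Finset.sum_comm, ← sub_eq_add_neg, sub_eq_zero]
    refine Finset.sum_congr rfl fun j _ => Finset.sum_congr rfl fun k _ => ?_
    rw [Sym2.eq_swap]
    ring⟩
  map_add' s t := by
    apply Subtype.ext
    change (∑ j, ∑ k, (s + t) s(j, k) • rt1 (du K k) (du K j) : Module.End K (Fin m ⊕ Fin m → K)) =
      (∑ j, ∑ k, s s(j, k) • rt1 (du K k) (du K j)) + ∑ j, ∑ k, t s(j, k) • rt1 (du K k) (du K j)
    rw [← Finset.sum_add_distrib]
    refine Finset.sum_congr rfl fun j _ => ?_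
    rw [← Finset.sum_add_distrib]
    refine Finset.sum_congr rfl fun k _ => ?_
    rw [Pi.add_apply, add_smul]
  map_smul' c s := by
    apply Subtype.ext
    change (∑ j, ∑ k, (c • s) s(j, k) • rt1 (du K k) (du K j) : Module.End K (Fin m ⊕ Fin m → K)) =
      c • (∑ j, ∑ k, s s(j, k) • rt1 (du K k) (du K j))
    rw [Finset.smul_sum]
    refine Finset.sum_congr rfl fun j _ => ?_
    rw [Finset.smul_sum]
    refine Finset.sum_congr rfl fun k _ => ?_
    rw [Pi.smul_apply, smul_eq_mul, mul_smul]

theorem ofSym_injective : Function.Injective (ofSym m K) := by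
  refine (injective_iff_map_eq_zero (ofSym m K)).2 fun s hs => ?_
  have h0 : (∑ j, ∑ k, s s(j, k) • rt1 (du K k) (du K j) : Module.End K (Fin m ⊕ Fin m → K)) = 0 :=
    congrArg Subtype.val hs
  funext z
  induction z using Sym2.ind with
  | _ a b =>
    have h1 := LinearMap.congr_fun h0 (Pi.single a 1)
    have h2 : (∑ j, ∑ k, s s(j, k) • rt1 (du K k) (du K j) : Module.End K (Fin m ⊕ Fin m → K)) (Pi.single a 1) =
        ∑ k, s s(a, k) • du K k := by
      rw [LinearMap.sum_apply, Finset.sum_eq_single a]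
      · rw [LinearMap.sum_apply]
        refine Finset.sum_congr rfl fun k _ => ?_
        rw [LinearMap.smul_apply, rt1_apply, form_du, Pi.single_eq_same, one_smul]
      · intro j _ hj
        rw [LinearMap.sum_apply]
        refine Finset.sum_eq_zero fun k _ => ?_
        rw [LinearMap.smul_apply, rt1_apply, form_du, Pi.single_eq_of_ne hj, zero_smul, smul_zero]
      · intro h
        exact absurd (Finset.mem_univ a) h
    rw [h2] at h1
    have h3 := congrArg (sympForm m K (Pi.single b 1)) h1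
    rw [LinearMap.zero_apply, sympForm_zero_right, ← sympBilin_apply, map_sum, Finset.sum_eq_single b] at h3
    · rwa [map_smul, sympBilin_apply, form_du, Pi.single_eq_same, smul_eq_mul, mul_one] at h3
    · intro j _ hj
      rw [map_smul, sympBilin_apply, form_du, Pi.single_eq_of_ne hj, smul_zero]
    · intro h
      exact absurd (Finset.mem_univ b) h

theorem le_finrank_sp : 2 * m ^ 2 + m ≤ Module.finrank K (sp m K) := by
  have h1 := LinearMap.finrank_le_finrank_of_injective (ofSym_injective m K)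
  rw [Module.finrank_fintype_fun_eq_card, Sym2.card, Fintype.card_sum, Fintype.card_fin] at h1
  have h2 : Nat.choose (m + m + 1) 2 = 2 * m ^ 2 + m := by
    rw [Nat.choose_two_right]
    have e : (m + m + 1) * (m + m + 1 - 1) = (2 * m ^ 2 + m) * 2 := by
      rw [Nat.add_sub_cancel]
      ring
    rw [e]
    exact Nat.mul_div_cancel _ (by norm_num)
  omega

theorem finrank_sp_le : Module.finrank K (sp m K) ≤ (2 * m) ^ 2 := by
  refine (Submodule.finrank_le _).trans (le_of_eq ?_)
  rw [Module.finrank_linearMap, Module.finrank_fintype_fun_eq_card, Fintype.card_sum, Fintype.card_fin]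
  ring

end dim

end Cfsg.Agent.H858.BR
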