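import Cfsg.Agent.H858.BR.SpTr
import Cfsg.Agent.H178.BR.SpQS
import Cfsg.Agent.H545.BR.SpIrr
import Cfsg.Agent.H212.BR.Gen
import Cfsg.Agent.H583.BR.Trn
import Cfsg.Agent.LieClassical.SympPerfect

/-!
# HUB BR: `fam_sp_odd` (helper858; pieces by helper178, helper545, helper487, helper16, helper583, helper212)
-/

set_option autoImplicit false

namespace Cfsg.Agent.H858.BR

open Cfsg Cfsg.Agent.H883.BR Cfsg.Agent.ClassicalGeometry.SympBasic Cfsg.Agent.H212.BR
open scoped Matrix

section root

variable (m : ℕ) (F : Type) [Field F]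

/-- the root groups -/
noncomputable def xr (v : Fin m ⊕ Fin m → F) (t : base F) : Matrix.symplecticGroup (Fin m) F :=
  transv v ((baseEquiv F).symm t)

theorem rho_xr (v : Fin m ⊕ Fin m → F) (t : base F) :
    rho m F (AlgebraicClosure F) (xr m F v t) = 1 + (t : AlgebraicClosure F) • rt (AlgebraicClosure F) v := by
  have h : algebraMap F (AlgebraicClosure F) ((baseEquiv F).symm t) = (t : AlgebraicClosure F) := by
    rw [← baseEquiv_apply, RingEquiv.apply_symm_apply]
  rw [xr, rho_transv, h]

theorem oneP : OneP (base F) (xr m F) where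
  add v s t := by
    rw [xr, xr, xr, map_add, Cfsg.Agent.LieClassical.SympPerfect.transv_mul]
  gen := by
    rw [eq_top_iff]
    have h : transvGroup m F = ⊤ := Cfsg.Agent.S0765.result m
    rw [← h, transvGroup, Subgroup.closure_le]
    rintro A ⟨w, c, hA⟩
    refine Subgroup.subset_closure ⟨w, baseEquiv F c, ?_⟩
    rw [xr, RingEquiv.symm_apply_apply]
    exact Subtype.ext hA.symm

theorem xr_inv (v : Fin m ⊕ Fin m → F) (t : base F) : (xr m F v t)⁻¹ = xr m F v (-t) := by
  rw [inv_eq_iff_mul_eq_one, ← (oneP m F).add, add_neg_cancel, xr, map_zero,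
    Cfsg.Agent.LieClassical.SympPerfect.transv_zero]

theorem polyDeg_rho : PolyDeg (rho m F (AlgebraicClosure F)) (base F) (xr m F) 1 := by
  intro v
  refine ⟨fun j => if j = 0 then 1 else rt (AlgebraicClosure F) v, fun t => ?_⟩
  rw [rho_xr, Finset.sum_range_succ, Finset.sum_range_one, pow_zero, one_smul, pow_one]
  rfl

theorem polyDeg_sig' : PolyDeg (V := ↥(sp m (AlgebraicClosure F))) (sig m F (AlgebraicClosure F)) (base F)
    (xr m F) 2 := by
  refine polyDeg_sig fun v => ⟨rt (AlgebraicClosure F) v, rtK_mem_sp _, fun t => ⟨rho_xr m F v t, ?_⟩⟩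
  rw [xr_inv, rho_xr]
  rw [sub_eq_add_neg]
  congr 1
  exact neg_smul (t : AlgebraicClosure F) (rt (AlgebraicClosure F) v)

end root

/-- **`fam_sp_odd`** -/
theorem fam_sp_odd (m : ℕ) (hm : 2 ≤ m) : ∃ q₀ : ℕ, ∀ (F : Type) [Field F] [Fintype F], q₀ ≤ Fintype.card F →
    Odd (Fintype.card F) → HasFam.{0, 0} (2 * m) (Fintype.card F) (Matrix.symplecticGroup (Fin m) F) := by
  classical
  obtain ⟨q1, hq1⟩ := count_of_card (2 * m ^ 2 + m) 1
  refine ⟨q1 + 2 * (2 * m) ^ 2 + 4, fun F _ _ hq hodd => ?_⟩
  obtain ⟨p, hc⟩ := CharP.exists F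
  have hp : Fact p.Prime := ⟨CharP.char_is_prime F p⟩
  have hcK : CharP (AlgebraicClosure F) p := charP_closure F p
  obtain ⟨k, -, hk⟩ := FiniteField.card F p
  have h2p : p ≠ 2 := by
    rintro rfl
    rw [hk] at hodd
    have h1 : Even (2 ^ (k : ℕ)) := (even_two).pow_of_ne_zero k.pos.ne'
    exact (Nat.not_even_iff_odd.2 hodd) h1
  have h2 : (2 : AlgebraicClosure F) ≠ 0 := by
    intro h
    have h1 : ((2 : ℕ) : AlgebraicClosure F) = 0 := by exact_mod_cast h
    rw [CharP.cast_eq_zero_iff (AlgebraicClosure F) p] at h1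
    exact h2p ((Nat.prime_dvd_prime_iff_eq hp.out Nat.prime_two).1 h1)
  have hfin : Finite (base F) := finite_base F
  have hcard : Nat.card (base F) = Fintype.card F := by rw [card_base, Nat.card_eq_fintype_card]
  have hF1 : ∀ t ∈ base F, ∃ c : F, algebraMap F (AlgebraicClosure F) c = t := fun t ht => (mem_base F).1 ht
  have h3 : 3 ≤ Nat.card (base F) := by omega
  have hm1 : 1 ≤ m := by omega
  have hqs : QS (Matrix.symplecticGroup (Fin m) F) := Cfsg.Agent.H178.BR.Sp.qs hm (by omega)
  have hfinG : Finite (Matrix.symplecticGroup (Fin m) F) := Subtype.finite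
  have hirr : ∀ M : Subgroup (Matrix.symplecticGroup (Fin m) F), Dns (ad (rho m F (AlgebraicClosure F))) M →
      Irr (V := ↥(sp m (AlgebraicClosure F))) (sig m F (AlgebraicClosure F)) M := fun M hM =>
    inh hF1 h3 hm1 h2 M hM
  have hdim : Module.finrank (AlgebraicClosure F) (Fin m ⊕ Fin m → AlgebraicClosure F) = 2 * m := by
    rw [Module.finrank_fintype_fun_eq_card, Fintype.card_sum, Fintype.card_fin]
    ring
  have hW := finrank_sp_le m (AlgebraicClosure F)
  refine ⟨p, 2 * m ^ 2 + m, AlgebraicClosure F, inferInstance, base F, Fin m ⊕ Fin m → AlgebraicClosure F,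
    ↥(sp m (AlgebraicClosure F)), inferInstance, inferInstance, inferInstance, inferInstance, rho m F _, sig m F _, ?_⟩
  exact
    { prime := hp.out
      char := hcK
      closed := inferInstance
      locfin := locfin F
      finF := hfin
      cardF := hcard
      finG := hfinG
      qs := hqs
      fdV := inferInstance
      fdW := inferInstance
      dimV := hdim
      two_le := by omega
      dimW := hW
      inj := rho_inj
      irr := Cfsg.Agent.H545.BR.SpIrr.irr hm1
      tprim := tprim hF1 h3
      root := ⟨_, xr m F, oneP m F, polyDeg_rho m F, polyDeg_sig' m F⟩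
      inh := hirr
      cen := cen
      ext := fun M U _ hU hU1 _ w _ hw => ext hF1 h3 hm1 h2 M U hU hU1 w hw
      trF := fun g => trF (k := k) (by rw [hcard, hk]) (fun c => by
        rw [hcard, ← map_pow, FiniteField.pow_card]) g
      count := fun M hM => hq1 _ _ (by omega) hqs (Cfsg.Agent.H178.BR.Sp.le_card_quot hm1)
        (by rw [one_mul]; exact Cfsg.Agent.H178.BR.Sp.card_le m) M hM
      trn := by
        refine Cfsg.Agent.H583.BR.Trn.trn_of_irr (W := ↥(sp m (AlgebraicClosure F))) (hirr ⊤ fun _ h => h) (oneP m F)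
          (polyDeg_sig' m F) (by omega) ?_
        by_contra hcon
        push Not at hcon
        have h1 := le_finrank_sp m (AlgebraicClosure F)
        have hnt : Nontrivial ↥(sp m (AlgebraicClosure F)) := nontrivial_sp hm1
        obtain ⟨X, hX⟩ := exists_ne (0 : ↥(sp m (AlgebraicClosure F)))
        rcases (hirr ⊤ fun _ h => h).2 (Submodule.span _ {X}) (fun g _ v hv => by
          rw [hcon g]
          exact hv) with h | h
        · exact hX (Submodule.span_singleton_eq_bot.1 h)
        · have h4 := finrank_span_le_card (R := AlgebraicClosure F) ({X} : Set ↥(sp m (AlgebraicClosure F)))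
          rw [h, finrank_top, Set.toFinset_singleton, Finset.card_singleton] at h4
          omega
      pw := fun k hk0 hk1 => Cfsg.Agent.H545.BR.SpIrr.pw hm1 k hk0 (by rwa [Nat.card_eq_fintype_card]) }

end Cfsg.Agent.H858.BR
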