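import Cfsg.Agent.H858.BR.SpAd
import Cfsg.Agent.H16.BR.ExtSo

/-!
# HUB BR, `fam_sp_odd`: the adjoint module `sp` (helper858)

* `sig m F K` : the representation on `sp m K`;
* `inh`, `cen`, `ext`, `polyDeg_sig`, `exists_sig_ne` : the fields of `Fam`.
-/

set_option autoImplicit false

namespace Cfsg.Agent.H858.BR

open Cfsg Cfsg.Agent.H883.BR Cfsg.Agent.ClassicalGeometry.SympBasic
open scoped Matrix

section

variable (m : ℕ) (F : Type*) [Field F] (K : Type*) [Field K] [Algebra F K]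

variable {m F K} in
theorem ad_mem_sp (g : Matrix.symplecticGroup (Fin m) F) {X : Module.End K (Fin m ⊕ Fin m → K)} (hX : X ∈ sp m K) :
    ad (rho m F K) g X ∈ sp m K := by
  intro v w
  change sympForm m K (rho m F K g (X (rho m F K g⁻¹ v))) w + sympForm m K v (rho m F K g (X (rho m F K g⁻¹ w))) = 0
  rw [form_rho_left g (X _) w, form_rho_right g v (X _)]
  exact hX (rho m F K g⁻¹ v) (rho m F K g⁻¹ w)

/-- the adjoint module -/
noncomputable def sig : Matrix.symplecticGroup (Fin m) F →* Module.End K (sp m K) where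
  toFun g := (ad (rho m F K) g).restrict fun _ hX => ad_mem_sp g hX
  map_one' := by
    refine LinearMap.ext fun X => Subtype.ext ?_
    change ad (rho m F K) 1 (X : Module.End K (Fin m ⊕ Fin m → K)) = X
    rw [map_one]
    rfl
  map_mul' g h := by
    refine LinearMap.ext fun X => Subtype.ext ?_
    change ad (rho m F K) (g * h) (X : Module.End K (Fin m ⊕ Fin m → K)) =
      ad (rho m F K) g (ad (rho m F K) h (X : Module.End K (Fin m ⊕ Fin m → K)))
    rw [map_mul]
    rfl

end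

section

variable {m : ℕ} {F : Type*} [Field F] {K : Type*} [Field K] [Algebra F K]

theorem sig_coe (g : Matrix.symplecticGroup (Fin m) F) (X : sp m K) :
    ((sig m F K g X : sp m K) : Module.End K (Fin m ⊕ Fin m → K)) = ad (rho m F K) g X := rfl

theorem cen (z : Matrix.symplecticGroup (Fin m) F) (c : K) (hz : rho m F K z = c • 1) : sig m F K z = 1 := by
  refine LinearMap.ext fun X => Subtype.ext ?_
  rw [sig_coe, ad_apply]
  have h1 : rho m F K z * (X : Module.End K (Fin m ⊕ Fin m → K)) = X * rho m F K z := by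
    rw [hz, smul_one_mul, mul_smul_one]
  rw [h1, mul_assoc, ← map_mul, mul_inv_cancel, map_one, mul_one]
  rfl

theorem rho_rtK (g : Matrix.symplecticGroup (Fin m) F) (v : Fin m ⊕ Fin m → K) :
    ad (rho m F K) g (rtK v) = rtK (rho m F K g v) := by
  refine LinearMap.ext fun y => ?_
  change rho m F K g (rtK v (rho m F K g⁻¹ y)) = rtK (rho m F K g v) y
  rw [rtK_apply, rtK_apply, map_smul, form_rho_right]

theorem nontrivial_sp (hm : 1 ≤ m) : Nontrivial (sp m K) := by
  refine Module.nontrivial_of_finrank_pos (R := K) ?_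
  have := le_finrank_sp m K
  omega

variable {F1 : Subfield K} (hF1 : ∀ t ∈ F1, ∃ c : F, algebraMap F K c = t) [Finite F1] (h3 : 3 ≤ Nat.card F1)
include hF1 h3

theorem inh (hm : 1 ≤ m) (h2 : (2 : K) ≠ 0) (M : Subgroup (Matrix.symplecticGroup (Fin m) F))
    (hM : Dns (ad (rho m F K)) M) : Irr (V := ↥(sp m K)) (sig m F K) M := by
  refine ⟨nontrivial_sp hm, fun U hU => ?_⟩
  have h1 : Inv (ad (rho m F K)) M (U.map (sp m K).subtype) := by
    rintro h hh _ ⟨x, hx, rfl⟩
    exact ⟨sig m F K h x, hU h hh x hx, rfl⟩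
  by_cases hU0 : U = ⊥
  · exact Or.inl hU0
  · right
    obtain ⟨x, hx, hx0⟩ := Submodule.exists_mem_ne_zero_of_ne_bot hU0
    have h4 := sp_le_of_mem hF1 h3 h2 (hM _ h1) ⟨x, hx, rfl⟩ x.2 (fun h => hx0 (Subtype.ext h))
    rw [eq_top_iff]
    intro y _
    obtain ⟨y', hy', hyy⟩ := h4 y.2
    have e : y' = y := Subtype.ext hyy
    rw [← e]
    exact hy'

/-- **the field `ext`** -/
theorem ext [Finite F] {p : ℕ} [hp : Fact p.Prime] [CharP K p] (hm : 1 ≤ m) (h2 : (2 : K) ≠ 0)
    (M U : Subgroup (Matrix.symplecticGroup (Fin m) F)) (hUp : IsPGroup p U) (hU1 : U ≠ ⊥) (w : sp m K)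
    (hw : ∀ v : sp m K, (∀ u ∈ U, sig m F K u v = v) ↔ ∃ c : K, v = c • w) :
    ∃ z ∈ U, ∃ a : Module.End K (Fin m ⊕ Fin m → K), a ≠ 0 ∧ a * a = 0 ∧ rho m F K z = 1 + a ∧
      (∀ b ∈ M, (∀ u ∈ U, b * u * b⁻¹ ∈ U) → ∀ c : K, sig m F K b w = c • w → ad (rho m F K) b a = c • a) ∧
      ∀ S : Submodule K (Module.End K (Fin m ⊕ Fin m → K)), Inv (ad (rho m F K)) ⊤ S → a ∈ S →
        2 * m ^ 2 + m ≤ Module.finrank K S := by
  classical
  have hfinG : Finite (Matrix.symplecticGroup (Fin m) F) := Subtype.finite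
  have hfinU : Finite U := inferInstance
  -- a fixed vector
  obtain ⟨v, hv0, hv⟩ : ∃ v : Fin m ⊕ Fin m → K, v ≠ 0 ∧ ∀ u ∈ U, rho m F K u v = v := by
    obtain ⟨x, -, hx0, hx⟩ := Cfsg.Agent.H16.BR.exists_fix_mod (K := K) (p := p) hUp ((rho m F K).comp U.subtype) ⊥ ⊤
      (by
        intro g s hs
        rw [Submodule.mem_bot] at hs ⊢
        rw [hs, map_zero])
      (fun g s _ => Submodule.mem_top) (by
        intro hle
        have h1 : (Pi.single (Sum.inl ⟨0, hm⟩) 1 : Fin m ⊕ Fin m → K) ∈ (⊥ : Submodule K (Fin m ⊕ Fin m → K)) :=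
          hle Submodule.mem_top
        rw [Submodule.mem_bot] at h1
        have h4 := congrFun h1 (Sum.inl ⟨0, hm⟩)
        rw [Pi.single_eq_same] at h4
        exact one_ne_zero h4)
    refine ⟨x, fun h => hx0 (by rw [h]; exact Submodule.zero_mem _), fun u hu => ?_⟩
    have h1 := (Submodule.mem_bot K).1 (hx ⟨u, hu⟩)
    exact sub_eq_zero.1 h1
  -- the root element of this vector
  obtain ⟨a0, ha0⟩ : ∃ a0 : sp m K, a0 = ⟨rtK v, rtK_mem_sp v⟩ := ⟨_, rfl⟩
  have ha0v : (a0 : Module.End K (Fin m ⊕ Fin m → K)) = rtK v := by rw [ha0]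
  obtain ⟨c1, hc1⟩ := (hw a0).1 (fun u hu => Subtype.ext (by rw [sig_coe, ha0v, rho_rtK, hv u hu]))
  have hc1v : rtK v = c1 • (w : Module.End K (Fin m ⊕ Fin m → K)) := by
    rw [← ha0v]
    exact congrArg Subtype.val hc1
  have hc10 : c1 ≠ 0 := by
    rintro rfl
    rw [zero_smul] at hc1v
    exact rtK_ne_zero hv0 hc1v
  -- a central element
  have hp2 : p ≠ 2 := by
    rintro rfl
    apply h2
    have := CharP.cast_eq_zero K 2
    exact_mod_cast this
  have hnt : Nontrivial U := (Subgroup.nontrivial_iff_ne_bot U).2 hU1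
  have hcnt : Nontrivial (Subgroup.center U) := hUp.center_nontrivial
  obtain ⟨⟨⟨z0, hz0U⟩, hz0c⟩, hz01⟩ := exists_ne (1 : Subgroup.center U)
  have hz0ne : z0 ≠ 1 := by
    intro h
    apply hz01
    apply Subtype.ext
    apply Subtype.ext
    exact h
  have hcomm : ∀ u ∈ U, u * z0 * u⁻¹ = z0 := by
    intro u hu
    have h1 := (Subgroup.mem_center_iff.1 hz0c) ⟨u, hu⟩
    have h4 : u * z0 = z0 * u := congrArg Subtype.val h1
    rw [h4, mul_inv_cancel_right]
  have hz2 : z0 * z0 ≠ 1 := by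
    intro h
    obtain ⟨k, hk⟩ := hUp ⟨z0, hz0U⟩
    have hk' : z0 ^ p ^ k = 1 := congrArg Subtype.val hk
    have h1 : orderOf z0 ∣ 2 := orderOf_dvd_of_pow_eq_one (by rw [pow_two]; exact h)
    have h4 : orderOf z0 ∣ p ^ k := orderOf_dvd_of_pow_eq_one hk'
    have h5 : Nat.Coprime 2 (p ^ k) := Nat.Coprime.pow_right _ ((Nat.coprime_primes Nat.prime_two hp.out).2 (Ne.symm hp2))
    have h6 : orderOf z0 = 1 := Nat.eq_one_of_dvd_coprimes h5 h1 h4
    exact hz0ne (orderOf_eq_one_iff.1 h6)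
  -- `ρ z0 - ρ z0⁻¹`
  have hb0 : rho m F K z0 - rho m F K z0⁻¹ ∈ sp m K := by
    intro x y
    change sympForm m K (rho m F K z0 x - rho m F K z0⁻¹ x) y + sympForm m K x (rho m F K z0 y - rho m F K z0⁻¹ y) = 0
    rw [sympForm_sub_left, sympForm_sub_right, form_rho_left, form_rho_left, inv_inv]
    ring
  obtain ⟨b0, hb0d⟩ : ∃ b0 : sp m K, b0 = ⟨rho m F K z0 - rho m F K z0⁻¹, hb0⟩ := ⟨_, rfl⟩
  have hb0v : (b0 : Module.End K (Fin m ⊕ Fin m → K)) = rho m F K z0 - rho m F K z0⁻¹ := by rw [hb0d]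
  obtain ⟨c2, hc2⟩ := (hw b0).1 (fun u hu => Subtype.ext (by
    rw [sig_coe, hb0v, ad_apply, mul_sub, sub_mul, ← map_mul, ← map_mul, ← map_mul, ← map_mul, hcomm u hu]
    have h1 : u * z0⁻¹ * u⁻¹ = z0⁻¹ := by
      have h4 := congrArg (·⁻¹) (hcomm u hu)
      simp only [mul_inv_rev, inv_inv] at h4
      rw [mul_assoc]
      exact h4
    rw [h1]))
  have hc2v : rho m F K z0 - rho m F K z0⁻¹ = c2 • (w : Module.End K (Fin m ⊕ Fin m → K)) := by
    rw [← hb0v]
    exact congrArg Subtype.val hc2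
  have hbr : rho m F K z0 - rho m F K z0⁻¹ = (c2 * c1⁻¹) • rtK v := by
    rw [hc2v, hc1v, smul_smul, mul_assoc, inv_mul_cancel₀ hc10, mul_one]
  have hrz : rtK v * rho m F K z0 = rtK v := by
    refine LinearMap.ext fun y => ?_
    change rtK v (rho m F K z0 y) = rtK v y
    rw [rtK_apply, rtK_apply, form_rho_left, hv _ (U.inv_mem hz0U)]
  have hsq : rho m F K (z0 * z0) = 1 + (rho m F K z0 - rho m F K z0⁻¹) := by
    have h1 : rho m F K (z0 * z0) = (rho m F K z0 - rho m F K z0⁻¹) * rho m F K z0 + 1 := by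
      rw [sub_mul, ← map_mul, ← map_mul, inv_mul_cancel, map_one]
      abel
    rw [h1, hbr, smul_mul_assoc, hrz, add_comm]
  have hane : rho m F K z0 - rho m F K z0⁻¹ ≠ 0 := by
    intro h
    rw [h, add_zero] at hsq
    exact hz2 (rho_inj (K := K) (by rw [hsq, map_one]))
  refine ⟨z0 * z0, U.mul_mem hz0U hz0U, rho m F K z0 - rho m F K z0⁻¹, hane, ?_, hsq, ?_, ?_⟩
  · rw [hbr, smul_mul_assoc, mul_smul_comm, rtK_sq, smul_zero, smul_zero]
  · intro b _ _ c hc
    have h1 : ad (rho m F K) b (w : Module.End K (Fin m ⊕ Fin m → K)) = c • (w : Module.End K (Fin m ⊕ Fin m → K)) :=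
      congrArg Subtype.val hc
    rw [hc2v, map_smul, h1, smul_comm]
  · intro S hS haS
    have h1 := sp_le_of_mem hF1 h3 h2 hS haS hb0 hane
    exact (le_finrank_sp m K).trans (Submodule.finrank_mono h1)

end

section

variable {m : ℕ} {K : Type*} [Field K]

theorem bracket_mem {a X : Module.End K (Fin m ⊕ Fin m → K)} (ha : a ∈ sp m K) (hX : X ∈ sp m K) :
    a * X - X * a ∈ sp m K := by
  intro v w
  change sympForm m K (a (X v) - X (a v)) w + sympForm m K v (a (X w) - X (a w)) = 0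
  rw [sympForm_sub_left, sympForm_sub_right]
  linear_combination ha (X v) w - hX (a v) w - hX v (a w) + ha v (X w)

theorem triple_mem {a X : Module.End K (Fin m ⊕ Fin m → K)} (ha : a ∈ sp m K) (hX : X ∈ sp m K) :
    a * X * a ∈ sp m K := by
  intro v w
  change sympForm m K (a (X (a v))) w + sympForm m K v (a (X (a w))) = 0
  linear_combination ha (X (a v)) w - hX (a v) (a w) + ha v (X (a w))

/-- the root groups act on `sp` by polynomials of degree two -/
theorem polyDeg_sig {F : Type*} [Field F] [Algebra F K] {F1 : Subfield K} {ι : Type*}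
    {x : ι → F1 → Matrix.symplecticGroup (Fin m) F}
    (hx : ∀ i, ∃ a ∈ sp m K, ∀ t : F1, rho m F K (x i t) = 1 + (t : K) • a ∧ rho m F K (x i t)⁻¹ = 1 - (t : K) • a) :
    PolyDeg (V := ↥(sp m K)) (sig m F K) F1 x 2 := by
  intro i
  obtain ⟨a, ha, hxa⟩ := hx i
  let c1 : Module.End K (sp m K) :=
    { toFun := fun X => ⟨a * X - X * a, bracket_mem ha X.2⟩
      map_add' := fun X Y => Subtype.ext (by
        change a * ((X : Module.End K (Fin m ⊕ Fin m → K)) + Y) - (X + Y) * a = (a * X - X * a) + (a * Y - Y * a)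
        rw [mul_add, add_mul]; abel)
      map_smul' := fun c X => Subtype.ext (by
        change a * (c • (X : Module.End K (Fin m ⊕ Fin m → K))) - (c • (X : Module.End K (Fin m ⊕ Fin m → K))) * a =
          c • (a * X - X * a)
        rw [mul_smul_comm, smul_mul_assoc, smul_sub]) }
  let c2 : Module.End K (sp m K) :=
    { toFun := fun X => ⟨-(a * X * a), (sp m K).neg_mem (triple_mem ha X.2)⟩
      map_add' := fun X Y => Subtype.ext (by
        change -(a * ((X : Module.End K (Fin m ⊕ Fin m → K)) + Y) * a) = -(a * X * a) + -(a * Y * a)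
        rw [mul_add, add_mul, neg_add])
      map_smul' := fun c X => Subtype.ext (by
        change -(a * (c • (X : Module.End K (Fin m ⊕ Fin m → K))) * a) = c • -(a * X * a)
        rw [mul_smul_comm, smul_mul_assoc, smul_neg]) }
  refine ⟨fun j => if j = 0 then 1 else if j = 1 then c1 else c2, fun t => ?_⟩
  rw [Finset.sum_range_succ, Finset.sum_range_succ, Finset.sum_range_one]
  refine LinearMap.ext fun X => Subtype.ext ?_
  rw [sig_coe, ad_apply, (hxa t).1, (hxa t).2]
  change (1 + (t : K) • a) * (X : Module.End K (Fin m ⊕ Fin m → K)) * (1 - (t : K) • a) =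
    (t : K) ^ 0 • (X : Module.End K (Fin m ⊕ Fin m → K)) + (t : K) ^ 1 • (a * X - X * a) + (t : K) ^ 2 • (- (a * X * a))
  simp only [add_mul, mul_sub, one_mul, mul_one, smul_mul_assoc, mul_smul_comm, pow_zero, one_smul, pow_one, pow_two, smul_add,
    smul_sub, smul_neg, mul_smul]
  abel

end

end Cfsg.Agent.H858.BR
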